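import Mathlib
import Cfsg.Prelude.Def_Classical
import Cfsg.Agent.LieRecognition.RankOneAbstract
import Cfsg.Agent.LieRecognition.PSUThreeSylow

/-!
# `SU₃(q)`, any characteristic, as a rank-one group

`HG σ` is the group of pairs `(a, b)` with `b + σ b = a * σ a`, product
`(a, b) (c, d) = (a + c, b + d + a * σ c)`. The group `SUG σ` of determinant one matrices preserving the
Hermitian form with Gram matrix `antidiag (1, -1, 1)` acts on the isotropic points; the stabiliser of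
`⟨e₁⟩` is `borel σ`, its unitriangular subgroup is `emb σ` (isomorphic to `HG σ`), `wel σ` is the
involution `-antidiag (1, 1, 1)`. In terms of pairs `w u(x) w ∈ B w u(a / b, 1 / b)` and
`w u(x) w ∈ u(a / σ b, 1 / b) w B` for `x = (a, b)`.
-/

set_option autoImplicit false

namespace Cfsg.Agent.UThreeGen.MatGroup

open Cfsg.Agent.LieRecognition.RankOneAbstract Matrix

variable {F : Type*} [Field F]

/-- Pairs `(a, b)` with `b + σ b = a * σ a`. -/
@[ext] structure HG (σ : F →+* F) where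
  /-- first coordinate -/
  a : F
  /-- second coordinate -/
  b : F
  h : b + σ b = a * σ a

section HGroup

variable {σ : F →+* F} [hσ : Fact (∀ x, σ (σ x) = x)]

theorem sig (x : F) : σ (σ x) = x := hσ.out x

instance instMulHG : Mul (HG σ) :=
  ⟨fun x y => ⟨x.a + y.a, x.b + y.b + x.a * σ y.a, by
    have h1 := x.h
    have h2 := y.h
    simp only [map_add, map_mul, sig]
    linear_combination h1 + h2⟩⟩

instance instOneHG : One (HG σ) := ⟨⟨0, 0, by simp⟩⟩

instance instInvHG : Inv (HG σ) :=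
  ⟨fun x => ⟨-x.a, σ x.b, by
    have h1 := x.h
    simp only [sig, map_neg]
    linear_combination h1⟩⟩

@[simp] theorem mul_a (x y : HG σ) : (x * y).a = x.a + y.a := rfl
@[simp] theorem mul_b (x y : HG σ) : (x * y).b = x.b + y.b + x.a * σ y.a := rfl
@[simp] theorem one_a : (1 : HG σ).a = 0 := rfl
@[simp] theorem one_b : (1 : HG σ).b = 0 := rfl
@[simp] theorem inv_a (x : HG σ) : (x⁻¹).a = -x.a := rfl
@[simp] theorem inv_b (x : HG σ) : (x⁻¹).b = σ x.b := rfl

instance instGroupHG : Group (HG σ) :=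
  Group.ofLeftAxioms
    (by
      intro x y z
      ext
      · simp [add_assoc]
      · simp only [mul_b, mul_a, map_add]; ring)
    (by
      intro x
      ext <;> simp)
    (by
      intro x
      have h := x.h
      ext
      · simp
      · simp only [mul_b, inv_b, inv_a, one_b]
        linear_combination h)

theorem b_ne_zero {x : HG σ} (hx : x ≠ 1) : x.b ≠ 0 := by
  intro h
  apply hx
  have h1 := x.h
  rw [h, map_zero, add_zero, eq_comm, mul_eq_zero, map_eq_zero, or_self] at h1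
  ext
  · exact h1
  · exact h

end HGroup

/-! ### The matrix group -/

/-- The Gram matrix `antidiag (1, -1, 1)`. -/
def Gm (F : Type*) [Field F] : Matrix (Fin 3) (Fin 3) F := !![0, 0, 1; 0, -1, 0; 1, 0, 0]

theorem Gm_mul_Gm : Gm F * Gm F = 1 := by
  ext i j
  fin_cases i <;> fin_cases j <;> simp [Gm, Matrix.mul_apply, Fin.sum_univ_three]

theorem Gm_transpose : (Gm F)ᵀ = Gm F := by
  ext i j
  fin_cases i <;> fin_cases j <;> simp [Gm]

theorem Gm_map (σ : F →+* F) : (Gm F).map σ = Gm F := by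
  ext i j
  fin_cases i <;> fin_cases j <;> simp [Gm]

/-- Determinant one matrices preserving the Hermitian form with Gram matrix `Gm`. -/
def SUG (σ : F →+* F) : Subgroup (SpecialLinearGroup (Fin 3) F) where
  carrier := {g | (g : Matrix (Fin 3) (Fin 3) F)ᵀ * Gm F * (g : Matrix (Fin 3) (Fin 3) F).map σ = Gm F}
  mul_mem' := by
    intro g h hg hh
    simp only [Set.mem_ofPred_eq] at *
    change (g.1 * h.1)ᵀ * Gm F * (g.1 * h.1).map σ = Gm F
    rw [Matrix.transpose_mul, Matrix.map_mul]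
    calc _ = (h : Matrix (Fin 3) (Fin 3) F)ᵀ * ((g : Matrix (Fin 3) (Fin 3) F)ᵀ * Gm F *
          (g : Matrix (Fin 3) (Fin 3) F).map σ) * (h : Matrix (Fin 3) (Fin 3) F).map σ := by
            simp only [Matrix.mul_assoc]
      _ = _ := by rw [hg, hh]
  one_mem' := by
    change (1 : Matrix (Fin 3) (Fin 3) F)ᵀ * Gm F * (1 : Matrix (Fin 3) (Fin 3) F).map σ = Gm F
    rw [Matrix.map_one σ (map_zero σ) (map_one σ), Matrix.mul_one, Matrix.transpose_one,
      Matrix.one_mul]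
  inv_mem' := by
    intro g hg
    simp only [Set.mem_ofPred_eq] at *
    have h1 : (g : Matrix (Fin 3) (Fin 3) F) * ((g⁻¹ : SpecialLinearGroup (Fin 3) F) :
        Matrix (Fin 3) (Fin 3) F) = 1 := congrArg Subtype.val (mul_inv_cancel g)
    generalize ((g⁻¹ : SpecialLinearGroup (Fin 3) F) : Matrix (Fin 3) (Fin 3) F) = B at *
    calc Bᵀ * Gm F * B.map σ = Bᵀ * ((g : Matrix (Fin 3) (Fin 3) F)ᵀ * Gm F *
          (g : Matrix (Fin 3) (Fin 3) F).map σ) * B.map σ := by rw [hg]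
      _ = ((g : Matrix (Fin 3) (Fin 3) F) * B)ᵀ * Gm F * ((g : Matrix (Fin 3) (Fin 3) F) * B).map σ := by
            rw [Matrix.transpose_mul, Matrix.map_mul]
            simp only [Matrix.mul_assoc]
      _ = Gm F := by
            rw [h1, Matrix.transpose_one, Matrix.one_mul, Matrix.map_one σ (map_zero σ) (map_one σ),
              Matrix.mul_one]

theorem mem_SUG_iff (σ : F →+* F) (g : SpecialLinearGroup (Fin 3) F) :
    g ∈ SUG σ ↔ (g : Matrix (Fin 3) (Fin 3) F)ᵀ * Gm F * (g : Matrix (Fin 3) (Fin 3) F).map σ =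
      Gm F := Iff.rfl

/-- The entrywise form of membership. -/
theorem entry_of_mem_SUG {σ : F →+* F} {g : SpecialLinearGroup (Fin 3) F} (hg : g ∈ SUG σ)
    (i j : Fin 3) : g.1 0 i * σ (g.1 2 j) - g.1 1 i * σ (g.1 1 j) + g.1 2 i * σ (g.1 0 j) =
      Gm F i j := by
  have h := congrFun (congrFun ((mem_SUG_iff σ g).mp hg) i) j
  rw [← h]
  simp only [Matrix.mul_apply, Fin.sum_univ_three, Gm, Matrix.transpose_apply, Matrix.map_apply,
    Matrix.of_apply, Matrix.cons_val', Matrix.cons_val_zero, Matrix.cons_val_one,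
    Matrix.cons_val_two, Matrix.empty_val', Matrix.cons_val_fin_one]
  simp
  ring

theorem inv_entries (g : SpecialLinearGroup (Fin 3) F) (h1 : g.1 1 0 = 0) (h2 : g.1 2 0 = 0) :
    (g⁻¹).1 1 0 = 0 ∧ (g⁻¹).1 2 0 = 0 := by
  change (Matrix.adjugate g.1) 1 0 = 0 ∧ (Matrix.adjugate g.1) 2 0 = 0
  rw [Matrix.adjugate_fin_three]
  constructor <;> simp [h1, h2]

/-- The stabiliser of the isotropic point `⟨e₁⟩`. -/
def borel (σ : F →+* F) : Subgroup (SUG σ) where
  carrier := {g | g.1.1 1 0 = 0 ∧ g.1.1 2 0 = 0}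
  mul_mem' := by
    rintro g h ⟨hg1, hg2⟩ ⟨hh1, hh2⟩
    constructor
    · change (g.1.1 * h.1.1) 1 0 = 0
      rw [Matrix.mul_apply, Fin.sum_univ_three, hg1, hh1, hh2]
      simp
    · change (g.1.1 * h.1.1) 2 0 = 0
      rw [Matrix.mul_apply, Fin.sum_univ_three, hg2, hh1, hh2]
      simp
  one_mem' := by
    constructor
    · change (1 : Matrix (Fin 3) (Fin 3) F) 1 0 = 0
      simp
    · change (1 : Matrix (Fin 3) (Fin 3) F) 2 0 = 0
      simp
  inv_mem' := by
    rintro g ⟨hg1, hg2⟩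
    exact inv_entries g.1 hg1 hg2

theorem mem_borel {σ : F →+* F} {g : SUG σ} :
    g ∈ borel σ ↔ g.1.1 1 0 = 0 ∧ g.1.1 2 0 = 0 := Iff.rfl

theorem coe_mul_SUG {σ : F →+* F} (g h : SUG σ) : (g * h).1.1 = g.1.1 * h.1.1 := rfl

/-- The matrix `-antidiag (1, 1, 1)`. -/
def Wm (F : Type*) [Field F] : Matrix (Fin 3) (Fin 3) F := !![0, 0, -1; 0, -1, 0; -1, 0, 0]

theorem Wm_mul_Wm : Wm F * Wm F = 1 := by
  ext i j
  fin_cases i <;> fin_cases j <;> simp [Wm, Matrix.mul_apply, Fin.sum_univ_three]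

theorem det_Wm : (Wm F).det = 1 := by
  rw [Wm, Matrix.det_fin_three]
  simp

theorem Wm_mem (σ : F →+* F) : (Wm F)ᵀ * Gm F * (Wm F).map σ = Gm F := by
  ext i j
  fin_cases i <;> fin_cases j <;> simp [Wm, Gm, Matrix.mul_apply, Fin.sum_univ_three]

/-- The antidiagonal element. -/
def wel (σ : F →+* F) : SUG σ := ⟨⟨Wm F, det_Wm⟩, Wm_mem σ⟩

/-- Left multiplication by the antidiagonal matrix. -/
theorem Wm_mul_apply (M : Matrix (Fin 3) (Fin 3) F) (j : Fin 3) :
    (Wm F * M) 0 j = -M 2 j ∧ (Wm F * M) 1 j = -M 1 j ∧ (Wm F * M) 2 j = -M 0 j := by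
  refine ⟨?_, ?_, ?_⟩ <;> simp [Wm, Matrix.mul_apply, Fin.sum_univ_three]

theorem mul_Wm_apply (M : Matrix (Fin 3) (Fin 3) F) (i : Fin 3) :
    (M * Wm F) i 0 = -M i 2 ∧ (M * Wm F) i 1 = -M i 1 ∧ (M * Wm F) i 2 = -M i 0 := by
  refine ⟨?_, ?_, ?_⟩ <;> simp [Wm, Matrix.mul_apply, Fin.sum_univ_three]

section Welt

variable {σ : F →+* F}

theorem wel_val : (wel σ).1.1 = Wm F := rfl

theorem wel_mul_wel : wel σ * wel σ = 1 := by
  apply Subtype.ext
  apply Subtype.ext
  exact Wm_mul_Wm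

theorem wel_inv : (wel σ)⁻¹ = wel σ := inv_eq_of_mul_eq_one_right wel_mul_wel

/-- The unitriangular matrix of a pair. -/
def umat (x : HG σ) : Matrix (Fin 3) (Fin 3) F := !![1, x.a, x.b; 0, 1, σ x.a; 0, 0, 1]

theorem det_umat (x : HG σ) : (umat x).det = 1 := by
  simp [umat, Matrix.det_fin_three]

/-- First column of `umat x * M`. -/
theorem umat_mul_apply (x : HG σ) (M : Matrix (Fin 3) (Fin 3) F) (j : Fin 3) :
    (umat x * M) 0 j = M 0 j + x.a * M 1 j + x.b * M 2 j ∧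
      (umat x * M) 1 j = M 1 j + σ x.a * M 2 j ∧ (umat x * M) 2 j = M 2 j := by
  refine ⟨?_, ?_, ?_⟩ <;> simp [umat, Matrix.mul_apply, Fin.sum_univ_three]

end Welt

section Unip

variable {σ : F →+* F} [hσ : Fact (∀ x, σ (σ x) = x)]

theorem umat_mul (x y : HG σ) : umat x * umat y = umat (x * y) := by
  ext i j
  fin_cases i <;> fin_cases j <;> simp [umat, Matrix.mul_apply, Fin.sum_univ_three] <;> ring

theorem umat_mem (x : HG σ) : (umat x)ᵀ * Gm F * (umat x).map σ = Gm F := by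
  have h := x.h
  ext i j
  fin_cases i <;> fin_cases j <;>
    simp [umat, Gm, Matrix.mul_apply, Fin.sum_univ_three, sig]
  linear_combination h

/-- The embedding of the group of pairs. -/
def emb (σ : F →+* F) [hσ : Fact (∀ x, σ (σ x) = x)] : HG σ →* SUG σ where
  toFun x := ⟨⟨umat x, det_umat x⟩, umat_mem x⟩
  map_one' := by
    apply Subtype.ext
    apply Subtype.ext
    ext i j
    fin_cases i <;> fin_cases j <;> simp [umat]
  map_mul' := by
    intro x y
    apply Subtype.ext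
    apply Subtype.ext
    exact (umat_mul x y).symm

theorem emb_val (x : HG σ) : (emb σ x).1.1 = umat x := rfl

theorem emb_injective : Function.Injective (emb σ) := by
  intro x y h
  have h1 : umat x = umat y := congrArg (fun g : SUG σ => g.1.1) h
  ext
  · simpa [umat] using congrFun (congrFun h1 0) 1
  · simpa [umat] using congrFun (congrFun h1 0) 2

/-- An element with first column `(1, 0, 0)` is in the image of the embedding. -/
theorem mem_range_of_col {g : SUG σ} (h0 : g.1.1 0 0 = 1) (h1 : g.1.1 1 0 = 0) (h2 : g.1.1 2 0 = 0) :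
    g ∈ (emb σ).range := by
  have e := entry_of_mem_SUG g.2
  have hdet : g.1.1.det = 1 := g.1.2
  have e01 := e 0 1
  have e02 := e 0 2
  have e12 := e 1 2
  have e22 := e 2 2
  simp [Gm, h0, h1, h2] at e01 e02
  have h22 : g.1.1 2 2 = 1 := by
    have := congrArg σ e02
    rwa [sig, map_one] at this
  have h11 : g.1.1 1 1 = 1 := by
    rw [Matrix.det_fin_three] at hdet
    rw [h0, h1, h2, h22, e01] at hdet
    linear_combination hdet
  simp [Gm, h22, h11, e01] at e12 e22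
  have h12 : σ (g.1.1 1 2) = g.1.1 0 1 := by linear_combination -e12
  have h12' : g.1.1 1 2 = σ (g.1.1 0 1) := by rw [← h12, sig]
  rw [h12', sig] at e22
  refine ⟨⟨g.1.1 0 1, g.1.1 0 2, ?_⟩, ?_⟩
  · linear_combination e22
  · apply Subtype.ext
    apply Subtype.ext
    rw [emb_val]
    ext i j
    fin_cases i <;> fin_cases j <;> simp [umat, h0, h1, h2, h22, h11, e01, h12']

/-- Elements normalising the unitriangular subgroup fix the line of the first basis vector. -/
theorem col_of_mem_normalizer (hx : ∃ x : HG σ, x.a ≠ 0) {g : SUG σ}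
    (hg : ∀ u ∈ (emb σ).range, g⁻¹ * u * g ∈ (emb σ).range) :
    g.1.1 1 0 = 0 ∧ g.1.1 2 0 = 0 := by
  obtain ⟨x, hx⟩ := hx
  obtain ⟨y, hy⟩ := hg (emb σ x) ⟨x, rfl⟩
  have h : emb σ x * g = g * emb σ y := by rw [hy]; group
  have hm : umat x * g.1.1 = g.1.1 * umat y := congrArg (fun k : SUG σ => k.1.1) h
  have c0 := congrFun (congrFun hm 0) 0
  have c1 := congrFun (congrFun hm 1) 0
  simp [umat, Matrix.mul_apply, Fin.sum_univ_three, hx] at c0 c1
  rw [c1] at c0
  simp [hx] at c0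
  exact ⟨c0, c1⟩

/-- The unitriangular subgroup meets the centre trivially. -/
theorem eq_one_of_mem_center {x : HG σ} (hx : emb σ x ∈ Subgroup.center (SUG σ)) : x = 1 := by
  have h := (Subgroup.mem_center_iff.mp hx) (wel σ)
  have hm : Wm F * umat x = umat x * Wm F := congrArg (fun k : SUG σ => k.1.1) h
  have c0 := congrFun (congrFun hm 0) 1
  have c1 := congrFun (congrFun hm 0) 0
  simp [Wm, umat, Matrix.mul_apply, Fin.sum_univ_three] at c0 c1
  ext
  · exact c0
  · exact c1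

/-- The element of `HG σ` with a given isotropic point. -/
def pt (u v w : F) (hw : w ≠ 0) (h : u * σ w - v * σ v + w * σ u = 0) : HG σ :=
  ⟨σ (v / w), u / w, by
    have hw' : σ w ≠ 0 := (map_ne_zero σ).mpr hw
    rw [sig, map_div₀, map_div₀]
    field_simp
    linear_combination h⟩

theorem data_SUG : Data (borel σ) (emb σ).range (wel σ) where
  w_not_mem := by
    rintro ⟨-, h⟩
    rw [wel_val] at h
    simp [Wm] at h
  le := by
    rintro _ ⟨x, rfl⟩
    rw [mem_borel, emb_val]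
    simp [umat]
  norm := by
    rintro h hh _ ⟨x, rfl⟩
    have hk : (h⁻¹).1.1 1 0 = 0 ∧ (h⁻¹).1.1 2 0 = 0 := (borel σ).inv_mem hh
    have hcol : ∀ i, (h * emb σ x * h⁻¹).1.1 i 0 = h.1.1 i 0 * (h⁻¹).1.1 0 0 := by
      intro i
      rw [coe_mul_SUG, coe_mul_SUG, emb_val, Matrix.mul_apply, Fin.sum_univ_three, hk.1, hk.2]
      simp [umat, Matrix.mul_apply, Fin.sum_univ_three]
    have h00 : h.1.1 0 0 * (h⁻¹).1.1 0 0 = 1 := by
      have h1 : (h * h⁻¹).1.1 0 0 = 1 := by
        rw [mul_inv_cancel]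
        change (1 : Matrix (Fin 3) (Fin 3) F) 0 0 = 1
        simp
      rw [coe_mul_SUG, Matrix.mul_apply, Fin.sum_univ_three, hk.1, hk.2] at h1
      simpa using h1
    apply mem_range_of_col
    · rw [hcol, h00]
    · rw [hcol, hh.1, zero_mul]
    · rw [hcol, hh.2, zero_mul]
  bruhat := by
    intro g hg
    have e := entry_of_mem_SUG g.2 0 0
    simp only [Gm, Matrix.of_apply, Matrix.cons_val', Matrix.cons_val_zero] at e
    have hw : g.1.1 2 0 ≠ 0 := by
      intro h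
      apply hg
      have e' : g.1.1 1 0 * σ (g.1.1 1 0) = 0 := by
        rw [h, map_zero] at e
        linear_combination -e
      rw [mul_eq_zero, map_eq_zero, or_self] at e'
      exact ⟨e', h⟩
    refine ⟨emb σ (pt (g.1.1 0 0) (g.1.1 1 0) (g.1.1 2 0) hw e), ⟨_, rfl⟩, ?_⟩
    set x := pt (g.1.1 0 0) (g.1.1 1 0) (g.1.1 2 0) hw e with hx
    have e2 : (emb σ x * wel σ)⁻¹ * g = wel σ * (emb σ x⁻¹ * g) := by
      rw [_root_.mul_inv_rev, wel_inv, map_inv, mul_assoc]
    rw [e2, mem_borel, coe_mul_SUG, coe_mul_SUG, wel_val, emb_val]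
    obtain ⟨-, j1, j2⟩ := Wm_mul_apply (umat x⁻¹ * g.1.1) 0
    obtain ⟨u0, u1, -⟩ := umat_mul_apply x⁻¹ g.1.1 0
    rw [j1, j2, u0, u1]
    have ha : x.a = σ (g.1.1 1 0 / g.1.1 2 0) := rfl
    have hb : x.b = g.1.1 0 0 / g.1.1 2 0 := rfl
    have hh := x.h
    have h1 : g.1.1 0 0 = x.b * g.1.1 2 0 := by rw [hb, div_mul_cancel₀ _ hw]
    have h2 : g.1.1 1 0 = σ x.a * g.1.1 2 0 := by
      rw [ha, sig, div_mul_cancel₀ _ hw]
    constructor
    · rw [inv_a, map_neg, h2]
      ring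
    · rw [inv_a, inv_b, h1, h2]
      linear_combination -g.1.1 2 0 * hh
  inter := by
    rintro _ ⟨x, rfl⟩ h
    rw [wel_inv, mem_borel, coe_mul_SUG, coe_mul_SUG, wel_val, emb_val] at h
    obtain ⟨h1, h2⟩ := h
    rw [(mul_Wm_apply _ 2).1, (Wm_mul_apply _ 2).2.2] at h2
    have h2' : x.b = 0 := by simpa [umat] using h2
    by_contra hne
    have : x ≠ 1 := by
      rintro rfl
      exact hne (map_one _)
    exact b_ne_zero this h2'

/-- The entries of an element fixing `⟨e₁⟩` and `⟨e₃⟩`. -/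
theorem entries_of_mem {g : SUG σ} (hg : g ∈ borel σ) (h : (wel σ)⁻¹ * g * wel σ ∈ borel σ) :
    g.1.1 1 0 = 0 ∧ g.1.1 2 0 = 0 ∧ g.1.1 0 1 = 0 ∧ g.1.1 2 1 = 0 ∧ g.1.1 0 2 = 0 ∧
      g.1.1 1 2 = 0 := by
  obtain ⟨h10, h20⟩ := hg
  rw [wel_inv, mem_borel, coe_mul_SUG, coe_mul_SUG, wel_val] at h
  obtain ⟨h12, h02⟩ := h
  rw [(mul_Wm_apply _ 1).1, (Wm_mul_apply _ 2).2.1, neg_neg] at h12
  rw [(mul_Wm_apply _ 2).1, (Wm_mul_apply _ 2).2.2, neg_neg] at h02
  have hdet : g.1.1.det = 1 := g.1.2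
  rw [Matrix.det_fin_three, h10, h20, h12, h02] at hdet
  have h00 : g.1.1 0 0 ≠ 0 := by
    intro h0
    rw [h0] at hdet
    simp at hdet
  have h22 : g.1.1 2 2 ≠ 0 := by
    intro h0
    rw [h0] at hdet
    simp at hdet
  have e01 := entry_of_mem_SUG g.2 0 1
  have e21 := entry_of_mem_SUG g.2 2 1
  simp only [h10, h20, h12, h02, zero_mul, mul_zero, add_zero, zero_add, sub_zero] at e01 e21
  have j01 : Gm F 0 1 = 0 := by simp [Gm]
  have j21 : Gm F 2 1 = 0 := by simp [Gm]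
  rw [j01, mul_eq_zero, map_eq_zero] at e01
  rw [j21, mul_eq_zero, map_eq_zero] at e21
  exact ⟨h10, h20, e21.resolve_left h22, e01.resolve_left h00, h02, h12⟩

/-- An element that fixes all isotropic points is central. -/
theorem mem_center_of_fix {g : SUG σ} (hx : ∃ x : HG σ, x.a ≠ 0)
    (hg : ∀ k : SUG σ, k⁻¹ * g * k ∈ borel σ) : g ∈ Subgroup.center (SUG σ) := by
  obtain ⟨h10, h20, h01, h21, h02, h12⟩ := entries_of_mem (by simpa using hg 1) (hg (wel σ))
  obtain ⟨x, hx⟩ := hx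
  have hx1 : x ≠ 1 := by
    rintro rfl
    exact hx one_a
  have hxb := b_ne_zero hx1
  have h := hg (emb σ x * wel σ)
  have e2 : (emb σ x * wel σ)⁻¹ * g * (emb σ x * wel σ) =
      wel σ * (emb σ x⁻¹ * (g * (emb σ x * wel σ))) := by
    rw [_root_.mul_inv_rev, wel_inv, map_inv]
    simp only [mul_assoc]
  rw [e2, mem_borel] at h
  simp only [coe_mul_SUG, wel_val, emb_val] at h
  obtain ⟨-, j1, j2⟩ := Wm_mul_apply (umat x⁻¹ * (g.1.1 * (umat x * Wm F))) 0
  obtain ⟨u0, u1, -⟩ := umat_mul_apply x⁻¹ (g.1.1 * (umat x * Wm F)) 0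
  rw [j1, j2, u0, u1] at h
  have c : ∀ i, (g.1.1 * (umat x * Wm F)) i 0 =
      -(g.1.1 i 0 * x.b + g.1.1 i 1 * σ x.a + g.1.1 i 2) := by
    intro i
    rw [Matrix.mul_apply, Fin.sum_univ_three, (mul_Wm_apply _ 0).1, (mul_Wm_apply _ 1).1,
      (mul_Wm_apply _ 2).1]
    simp [umat]
    ring
  rw [c 0, c 1, c 2, h10, h20, h01, h21, h02, h12] at h
  simp only [zero_mul, zero_add, add_zero, inv_a, inv_b, map_neg] at h
  obtain ⟨ha, hb⟩ := h
  have hsa : σ x.a ≠ 0 := (map_ne_zero σ).mpr hx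
  have e11 : g.1.1 1 1 = g.1.1 2 2 := by
    have : (g.1.1 1 1 - g.1.1 2 2) * σ x.a = 0 := by linear_combination ha
    exact sub_eq_zero.mp ((mul_eq_zero.mp this).resolve_right hsa)
  have e00 : g.1.1 0 0 = g.1.1 2 2 := by
    have hh := x.h
    have : (g.1.1 0 0 - g.1.1 2 2) * x.b = 0 := by
      rw [e11] at hb
      linear_combination hb - g.1.1 2 2 * hh
    exact sub_eq_zero.mp ((mul_eq_zero.mp this).resolve_right hxb)
  have hscal : g.1.1 = Matrix.scalar (Fin 3) (g.1.1 2 2) := by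
    ext i j
    fin_cases i <;> fin_cases j <;> simp [h10, h20, h01, h21, h02, h12, e00, e11]
  rw [Subgroup.mem_center_iff]
  intro k
  apply Subtype.ext
  apply Subtype.ext
  change k.1.1 * g.1.1 = g.1.1 * k.1.1
  rw [hscal]
  exact (Matrix.scalar_commute (g.1.1 2 2) (Commute.all _) k.1.1).eq.symm

/-- The centre lies in the Borel subgroup. -/
theorem center_le_borel (hx : ∃ x : HG σ, x.a ≠ 0) : Subgroup.center (SUG σ) ≤ borel σ := by
  intro g hg
  apply col_of_mem_normalizer hx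
  intro u hu
  have : g⁻¹ * u * g = u := by
    rw [mul_assoc, (Subgroup.mem_center_iff.mp hg u), inv_mul_cancel_left]
  rw [this]
  exact hu

/-- `SUG σ` is generated by the unitriangular subgroup and the antidiagonal element. -/
theorem closure_SUG (hb : ∀ b : F, ∃ x : HG σ, x.b = b) :
    Subgroup.closure (((emb σ).range : Set (SUG σ)) ∪ {wel σ}) = ⊤ := by
  set K := Subgroup.closure (((emb σ).range : Set (SUG σ)) ∪ {wel σ}) with hK
  have hU : ∀ x, emb σ x ∈ K := fun x => Subgroup.subset_closure (Or.inl ⟨x, rfl⟩)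
  have hw : wel σ ∈ K := Subgroup.subset_closure (Or.inr rfl)
  have hB : borel σ ≤ K := by
    intro g hg
    have hg0 : g.1.1 0 0 ≠ 0 := by
      intro h0
      have hdet : g.1.1.det = 1 := g.1.2
      rw [Matrix.det_fin_three, hg.1, hg.2, h0] at hdet
      simp at hdet
    obtain ⟨x, hx⟩ := hb (-g.1.1 0 0)
    have hx1 : x ≠ 1 := by
      rintro rfl
      rw [one_b] at hx
      exact hg0 (neg_eq_zero.mp hx.symm)
    have hxb := b_ne_zero hx1
    obtain ⟨z, hz⟩ : ∃ z : HG σ, z = pt 1 (σ x.a) x.b hxb (by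
      rw [sig]
      have := x.h
      rw [map_one]
      linear_combination this) := ⟨_, rfl⟩
    have hza : σ z.a = σ x.a / x.b := by rw [hz]; exact sig _
    have hzb : z.b = 1 / x.b := by rw [hz]; rfl
    set M : SUG σ := wel σ * (emb σ z⁻¹ * (wel σ * (emb σ x * wel σ))) with hM
    have hMK : M ∈ K := K.mul_mem hw (K.mul_mem (hU _) (K.mul_mem hw (K.mul_mem (hU _) hw)))
    -- first column of `M`
    have hM0 : M.1.1 0 0 = -x.b ∧ M.1.1 1 0 = 0 ∧ M.1.1 2 0 = 0 := by
      rw [hM]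
      simp only [coe_mul_SUG, wel_val, emb_val]
      obtain ⟨j0, j1, j2⟩ := Wm_mul_apply (umat z⁻¹ * (Wm F * (umat x * Wm F))) 0
      obtain ⟨u0, u1, u2⟩ := umat_mul_apply z⁻¹ (Wm F * (umat x * Wm F)) 0
      obtain ⟨k0, k1, k2⟩ := Wm_mul_apply (umat x * Wm F) 0
      rw [j0, j1, j2, u0, u1, u2, k0, k1, k2, (mul_Wm_apply _ 0).1, (mul_Wm_apply _ 1).1,
        (mul_Wm_apply _ 2).1]
      have m0 : umat x 0 2 = x.b := by simp [umat]
      have m1 : umat x 1 2 = σ x.a := by simp [umat]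
      have m2 : umat x 2 2 = 1 := by simp [umat]
      rw [m0, m1, m2, inv_a, inv_b, map_neg]
      refine ⟨by ring, ?_, ?_⟩
      · rw [hza]
        field_simp
        ring
      · have h1 : σ x.a = σ z.a * x.b := by rw [hza, div_mul_cancel₀ _ hxb]
        have h2 : 1 = z.b * x.b := by rw [hzb, div_mul_cancel₀ _ hxb]
        have h3 := z.h
        rw [h1]
        linear_combination -h2 - x.b * h3
    have hMB : M ∈ borel σ := ⟨hM0.2.1, hM0.2.2⟩
    have hinv : (M⁻¹).1.1 1 0 = 0 ∧ (M⁻¹).1.1 2 0 = 0 := (borel σ).inv_mem hMB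
    have h00 : (M⁻¹).1.1 0 0 * M.1.1 0 0 = 1 := by
      have h1 : (M⁻¹ * M).1.1 0 0 = 1 := by
        rw [inv_mul_cancel]
        change (1 : Matrix (Fin 3) (Fin 3) F) 0 0 = 1
        simp
      rw [coe_mul_SUG, Matrix.mul_apply, Fin.sum_univ_three, hM0.2.1, hM0.2.2] at h1
      simpa using h1
    have hmem : M⁻¹ * g ∈ (emb σ).range := by
      have hcol : ∀ i, (M⁻¹ * g).1.1 i 0 = (M⁻¹).1.1 i 0 * g.1.1 0 0 := by
        intro i
        rw [coe_mul_SUG, Matrix.mul_apply, Fin.sum_univ_three, hg.1, hg.2]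
        simp
      apply mem_range_of_col
      · rw [hcol, ← neg_neg (g.1.1 0 0), ← hx, ← hM0.1, h00]
      · rw [hcol, hinv.1, zero_mul]
      · rw [hcol, hinv.2, zero_mul]
    obtain ⟨y, hy⟩ := hmem
    have : g = M * emb σ y := by rw [hy]; group
    rw [this]
    exact K.mul_mem hMK (hU y)
  rw [eq_top_iff]
  intro g _
  by_cases hg : g ∈ borel σ
  · exact hB hg
  · obtain ⟨_, ⟨s, rfl⟩, h⟩ := data_SUG.bruhat g hg
    have : g = emb σ s * wel σ * ((emb σ s * wel σ)⁻¹ * g) := by group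
    rw [this]
    exact K.mul_mem (K.mul_mem (hU s) hw) (hB h)

/-- The relation `w u(x) w ∈ u(g x) w B` with `g (a, b) = (a / σ b, 1 / b)`. -/
theorem wel_conj_mem {x y : HG σ} (hx : x ≠ 1) (ha : y.a = x.a / σ x.b) (hb : y.b = (x.b)⁻¹) :
    (emb σ y * wel σ)⁻¹ * (wel σ * emb σ x * wel σ) ∈ borel σ := by
  have hxb := b_ne_zero hx
  have hsb : σ x.b ≠ 0 := (map_ne_zero σ).mpr hxb
  have e2 : (emb σ y * wel σ)⁻¹ * (wel σ * emb σ x * wel σ) =
      wel σ * (emb σ y⁻¹ * (wel σ * (emb σ x * wel σ))) := by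
    rw [_root_.mul_inv_rev, wel_inv, map_inv]
    simp only [mul_assoc]
  rw [e2, mem_borel]
  simp only [coe_mul_SUG, wel_val, emb_val]
  obtain ⟨-, j1, j2⟩ := Wm_mul_apply (umat y⁻¹ * (Wm F * (umat x * Wm F))) 0
  obtain ⟨u0, u1, -⟩ := umat_mul_apply y⁻¹ (Wm F * (umat x * Wm F)) 0
  obtain ⟨k0, k1, k2⟩ := Wm_mul_apply (umat x * Wm F) 0
  rw [j1, j2, u0, u1, k0, k1, k2, (mul_Wm_apply _ 0).1, (mul_Wm_apply _ 1).1,
    (mul_Wm_apply _ 2).1]
  have m0 : umat x 0 2 = x.b := by simp [umat]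
  have m1 : umat x 1 2 = σ x.a := by simp [umat]
  have m2 : umat x 2 2 = 1 := by simp [umat]
  rw [m0, m1, m2, inv_a, inv_b, ha, hb, map_neg, map_div₀, map_inv₀, sig]
  have hh := x.h
  constructor
  · field_simp
    ring
  · field_simp
    linear_combination -hh

end Unip

end Cfsg.Agent.UThreeGen.MatGroup
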