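import Mathlib
import Cfsg.Prelude.Def_Classical
import Cfsg.Agent.UThreeGen.MatGroup
import Cfsg.Agent.UThreeGen.DataIso

/-!
# `PSU₃(q)`, `q` odd, as a rank-one group, and its recognition

`exists_model`: `PSU 3 F q` has rank-one data `H, S, w` with `w² = 1`, trivial core, `S ≃* HG σ`, generated by
`S` and `w`, with `w u(x) w ∈ u(a / σ b, 1 / b) w H`. `nonempty_mulEquiv_PSU` (`_f`): recognition.
-/

set_option autoImplicit false

namespace Cfsg.Agent.UThreeGen.Recog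

open Cfsg.Agent.LieRecognition.RankOneAbstract Cfsg.Agent.UThreeGen.MatGroup
  Cfsg.Agent.UThreeGen.DataIso Matrix
open Cfsg.Agent.LieRecognition.PSUThreeSylow (conjT conjT_coe mem_SU_iff)

variable {F : Type*} [Field F] {σ : F →+* F} [hσ : Fact (∀ x, σ (σ x) = x)]

theorem map_map_sig (M : Matrix (Fin 3) (Fin 3) F) : (M.map σ).map σ = M := by
  ext i j
  simp [sig]

/-- A matrix taking the standard form to the form with Gram matrix `-Gm`. -/
theorem exists_T (h2 : (2 : F) ≠ 0) {v : F} (hv : v * σ v = -1) :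
    ∃ T T' : Matrix (Fin 3) (Fin 3) F, T * T' = 1 ∧ Tᵀ * T.map σ = -Gm F := by
  have hs2 : σ (2 : F) = 2 := map_ofNat σ 2
  let T : Matrix (Fin 3) (Fin 3) F := !![1, 0, -(1 / 2); v, 0, v / 2; 0, 1, 0]
  have hT : Tᵀ * T.map σ = -Gm F := by
    ext i j
    fin_cases i <;> fin_cases j <;>
      simp [T, Gm, Matrix.mul_apply, Fin.sum_univ_three, Matrix.transpose_apply, hs2]
    · linear_combination hv
    · field_simp
      linear_combination hv
    · field_simp
      linear_combination hv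
    · field_simp
      linear_combination hv
  refine ⟨T, -Gm F * (T.map σ)ᵀ, ?_, hT⟩
  have h1 : (-Gm F * Tᵀ) * T.map σ = 1 := by
    rw [Matrix.mul_assoc, hT, Matrix.neg_mul, Matrix.mul_neg, neg_neg, Gm_mul_Gm]
  have h3 := congrArg (fun M : Matrix (Fin 3) (Fin 3) F => M.map σ) h1
  have hneg : (-Gm F).map σ = -Gm F := by
    ext i j
    have := congrFun (congrFun (Gm_map σ) i) j
    simp only [Matrix.map_apply] at this
    simp [this]
  simp only [Matrix.map_mul, map_map_sig, hneg, Matrix.map_one σ (map_zero σ) (map_one σ)] at h3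
  exact mul_eq_one_comm.mp h3

omit hσ in
theorem SU_eq_map {q : ℕ} (hs : ∀ x, σ x = x ^ q) {T T' : Matrix (Fin 3) (Fin 3) F}
    (h : T * T' = 1) (hT : Tᵀ * T.map σ = -Gm F) :
    (SUG σ).map (conjT h).toMonoidHom = Cfsg.SU 3 F q := by
  ext g
  rw [mem_SU_iff hs]
  constructor
  · rintro ⟨k, hk, rfl⟩
    change (T * k.1 * T')ᵀ * (T * k.1 * T').map σ = 1
    have hk' := (mem_SUG_iff σ k).mp hk
    simp only [Matrix.transpose_mul, Matrix.map_mul]
    calc T'ᵀ * (k.1ᵀ * Tᵀ) * (T.map σ * k.1.map σ * T'.map σ)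
        = T'ᵀ * (k.1ᵀ * (Tᵀ * T.map σ) * k.1.map σ) * T'.map σ := by simp only [Matrix.mul_assoc]
      _ = T'ᵀ * (Tᵀ * T.map σ) * T'.map σ := by
          rw [hT, Matrix.mul_neg, Matrix.neg_mul, hk']
      _ = (T * T')ᵀ * (T * T').map σ := by
          simp only [Matrix.transpose_mul, Matrix.map_mul, Matrix.mul_assoc]
      _ = 1 := by rw [h, Matrix.transpose_one, Matrix.one_mul,
          Matrix.map_one σ (map_zero σ) (map_one σ)]
  · intro hg
    refine ⟨(conjT h).symm g, ?_, (conjT h).apply_symm_apply g⟩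
    change (T' * g.1 * T)ᵀ * Gm F * (T' * g.1 * T).map σ = Gm F
    simp only [Matrix.transpose_mul, Matrix.map_mul]
    have key : Tᵀ * (g.1ᵀ * T'ᵀ) * (-Gm F) * (T'.map σ * g.1.map σ * T.map σ) = -Gm F := by
      calc Tᵀ * (g.1ᵀ * T'ᵀ) * (-Gm F) * (T'.map σ * g.1.map σ * T.map σ)
          = Tᵀ * (g.1ᵀ * (T'ᵀ * (Tᵀ * T.map σ) * T'.map σ) * g.1.map σ) * T.map σ := by
            rw [hT]; simp only [Matrix.mul_assoc]
        _ = Tᵀ * (g.1ᵀ * ((T * T')ᵀ * (T * T').map σ) * g.1.map σ) * T.map σ := by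
            simp only [Matrix.transpose_mul, Matrix.map_mul, Matrix.mul_assoc]
        _ = Tᵀ * T.map σ := by
            rw [h, Matrix.transpose_one, Matrix.one_mul, Matrix.map_one σ (map_zero σ) (map_one σ),
              Matrix.mul_one, hg, Matrix.mul_one]
        _ = -Gm F := hT
    rw [Matrix.mul_neg, Matrix.neg_mul, neg_inj] at key
    exact key

/-- The norm is surjective onto the fixed field. -/
theorem exists_norm [Finite F] {q : ℕ} (hq : 1 < q) (hs : ∀ x, σ x = x ^ q)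
    (hF : Nat.card F = q ^ 2) {c : F} (hfix : σ c = c) : ∃ a : F, a * σ a = c := by
  let _ : Fintype F := Fintype.ofFinite F
  by_cases hc0 : c = 0
  · exact ⟨0, by rw [hc0, zero_mul]⟩
  · -- use a generator of the unit group
    obtain ⟨g, hg⟩ := IsCyclic.exists_generator (α := Fˣ)
    have hcard : Nat.card Fˣ = (q - 1) * (q + 1) := by
      rw [Nat.card_units, hF, sq]
      obtain ⟨m, hm⟩ : ∃ m, q = m + 1 := ⟨q - 1, by omega⟩
      rw [hm]
      simp only [Nat.add_sub_cancel]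
      ring_nf
      omega
    obtain ⟨k, hk⟩ := (Submonoid.mem_powers_iff _ _).mp
      ((mem_powers_iff_mem_zpowers).mpr (hg (Units.mk0 c hc0)))
    have hk1 : (g ^ k) ^ (q - 1) = 1 := by
      rw [hk]
      apply Units.ext
      rw [Units.val_pow_eq_pow_val, Units.val_mk0, Units.val_one]
      have h1 : c ^ (q - 1) * c = c := by
        rw [← pow_succ, Nat.sub_add_cancel hq.le, ← hs, hfix]
      exact mul_right_cancel₀ hc0 (by rw [h1, one_mul])
    have hord : orderOf g = (q - 1) * (q + 1) := by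
      rw [← hcard]
      exact orderOf_eq_card_of_forall_mem_zpowers hg
    rw [← pow_mul] at hk1
    have h2 := orderOf_dvd_of_pow_eq_one hk1
    rw [hord, mul_comm k] at h2
    obtain ⟨l, hl⟩ := Nat.dvd_of_mul_dvd_mul_left (by omega) h2
    refine ⟨((g ^ l : Fˣ) : F), ?_⟩
    rw [hs, ← pow_succ', ← Units.val_pow_eq_pow_val, ← pow_mul, mul_comm l, ← hl, hk,
      Units.val_mk0]

theorem exists_b [Finite F] {q : ℕ} (hq : 1 < q) (hs : ∀ x, σ x = x ^ q)
    (hF : Nat.card F = q ^ 2) (b : F) : ∃ x : HG σ, x.b = b := by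
  obtain ⟨a, ha⟩ := exists_norm (σ := σ) hq hs hF (c := b + σ b) (by rw [map_add, sig, add_comm])
  exact ⟨⟨a, b, ha.symm⟩, rfl⟩

/-- An odd characteristic field: pairs with given first coordinate. -/
theorem exists_a (h2 : (2 : F) ≠ 0) (a : F) : ∃ x : HG σ, x.a = a := by
  have hs2 : σ (2 : F) = 2 := map_ofNat σ 2
  refine ⟨⟨a, a * σ a / 2, ?_⟩, rfl⟩
  rw [map_div₀, map_mul, hs2, sig]
  field_simp
  ring

/-- All the facts on `PSU₃(q)`, `q` odd, used for its recognition. -/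
theorem exists_model [Finite F] {q : ℕ} (hq : 1 < q) (h2 : (2 : F) ≠ 0) (hs : ∀ x, σ x = x ^ q)
    (hF : Nat.card F = q ^ 2) :
    ∃ (H S : Subgroup (Cfsg.PSU 3 F q)) (w : Cfsg.PSU 3 F q) (ψ : HG σ ≃* S),
      Data H S w ∧ w * w = 1 ∧
      (∀ g : Cfsg.PSU 3 F q, (∀ k : Cfsg.PSU 3 F q, k⁻¹ * g * k ∈ H) → g = 1) ∧
      Subgroup.closure ((S : Set (Cfsg.PSU 3 F q)) ∪ {w}) = ⊤ ∧
      ∀ x y : HG σ, x ≠ 1 → y.a = x.a / σ x.b → y.b = (x.b)⁻¹ →
        ((ψ y : Cfsg.PSU 3 F q) * w)⁻¹ * (w * (ψ x : Cfsg.PSU 3 F q) * w) ∈ H := by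
  obtain ⟨x₀, hx₀⟩ := exists_a (σ := σ) h2 1
  have hx : ∃ x : HG σ, x.a ≠ 0 := ⟨x₀, by rw [hx₀]; exact one_ne_zero⟩
  obtain ⟨v, hv⟩ := exists_norm (σ := σ) hq hs hF (c := -1) (by rw [map_neg, map_one])
  obtain ⟨T, T', hTT', hT⟩ := exists_T (σ := σ) h2 hv
  let e : SUG σ ≃* Cfsg.SU 3 F q :=
    ((conjT hTT').subgroupMap (SUG σ)).trans (MulEquiv.subgroupCongr (SU_eq_map hs hTT' hT))
  let π : SUG σ →* Cfsg.PSU 3 F q :=
    (QuotientGroup.mk' (Subgroup.center (Cfsg.SU 3 F q))).comp e.toMonoidHom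
  have hπ : Function.Surjective π := (QuotientGroup.mk'_surjective _).comp e.surjective
  have hker : ∀ g, π g = 1 ↔ g ∈ Subgroup.center (SUG σ) := by
    intro g
    have h1 : π g = 1 ↔ e g ∈ Subgroup.center (Cfsg.SU 3 F q) := by
      rw [← QuotientGroup.eq_one_iff]
      exact Iff.rfl
    rw [h1, Subgroup.mem_center_iff, Subgroup.mem_center_iff]
    constructor
    · intro h k
      apply e.injective
      rw [map_mul, map_mul]
      exact h (e k)
    · intro h k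
      obtain ⟨k, rfl⟩ := e.surjective k
      rw [← map_mul, ← map_mul, h k]
  have hkB : π.ker ≤ borel σ := by
    intro g hg
    exact center_le_borel hx ((hker g).mp hg)
  have hD := data_map data_SUG π hπ hkB
  have hinj : ∀ x : HG σ, π (emb σ x) = 1 → x = 1 := by
    intro x h
    exact eq_one_of_mem_center ((hker _).mp h)
  have hinj2 : Function.Injective (π.comp (emb σ)) := by
    rw [injective_iff_map_eq_one]
    exact hinj
  have hSr : (π.comp (emb σ)).range = (emb σ).range.map π := by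
    rw [MonoidHom.range_comp]
  let ψ : HG σ ≃* ((emb σ).range.map π : Subgroup (Cfsg.PSU 3 F q)) :=
    (MonoidHom.ofInjective hinj2).trans (MulEquiv.subgroupCongr hSr)
  have hψ : ∀ x, (ψ x : Cfsg.PSU 3 F q) = π (emb σ x) := fun _ => rfl
  refine ⟨(borel σ).map π, (emb σ).range.map π, π (wel σ), ψ, hD, ?_, ?_, ?_, ?_⟩
  · rw [← map_mul, wel_mul_wel, map_one]
  · intro g' hg'
    obtain ⟨g, rfl⟩ := hπ g'
    rw [hker]
    apply mem_center_of_fix hx
    intro k
    apply mem_of_map_mem π hkB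
    simpa using hg' (π k)
  · have h1 := closure_SUG (σ := σ) (exists_b hq hs hF)
    have h2 := congrArg (Subgroup.map π) h1
    rw [MonoidHom.map_closure, Set.image_union, Set.image_singleton,
      ← MonoidHom.range_eq_map, MonoidHom.range_eq_top.mpr hπ] at h2
    exact h2
  · intro x y hx1 ha hb
    rw [hψ, hψ]
    exact ⟨_, wel_conj_mem hx1 ha hb, by simp⟩

variable {G : Type*} [Group G] {B U : Subgroup G} {t : G}

/-- **Recognition of `PSU₃(q)`, `q` odd**: rank-one data `B, U, t` with `t² = 1`, trivial core, `G = ⟨U, t⟩`,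
`U ≃* HG σ` and `t x t ∈ y t B` with `y = (a / σ b, 1 / b)` for `x = (a, b) ≠ 1`. -/
theorem nonempty_mulEquiv_PSU [Finite F] {q : ℕ} (hq : 1 < q) (h2 : (2 : F) ≠ 0)
    (hs : ∀ x, σ x = x ^ q) (hF : Nat.card F = q ^ 2)
    (D : Data B U t) (ht : t * t = 1)
    (hcore : ∀ g : G, (∀ k : G, k⁻¹ * g * k ∈ B) → g = 1)
    (hgen : Subgroup.closure ((U : Set G) ∪ {t}) = ⊤)
    (φ : U ≃* HG σ)
    (hg : ∀ x : U, x ≠ 1 → ∃ y : U, ∃ h ∈ B, t * x * t = y * t * h ∧
      (φ y).a = (φ x).a / σ (φ x).b ∧ (φ y).b = ((φ x).b)⁻¹) :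
    Nonempty (G ≃* Cfsg.PSU 3 F q) := by
  obtain ⟨H, S, w, ψ, hD, hw, hc, hclos, hrel⟩ := exists_model (σ := σ) hq h2 hs hF
  obtain ⟨Φ, -, -⟩ := exists_mulEquiv_of_data D hD ht hw hcore hc hgen hclos (φ.trans ψ) (by
    intro x y hx he
    obtain ⟨y₁, h₁, hh₁, he₁, ha, hb⟩ := hg x hx
    -- uniqueness of `y`
    have hyy : y = y₁ := by
      have e0 : t⁻¹ * ((y : G)⁻¹ * (y₁ : G)) * t ∈ B := by
        have e1 : t⁻¹ * ((y : G)⁻¹ * (y₁ : G)) * t = (((y : G) * t)⁻¹ * (t * (x : G) * t)) * h₁⁻¹ := by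
          rw [he₁]; group
        rw [e1]
        exact B.mul_mem he (B.inv_mem hh₁)
      have e4 := D.inter ((y : G)⁻¹ * (y₁ : G)) (U.mul_mem (U.inv_mem y.2) y₁.2) e0
      exact Subtype.ext (inv_mul_eq_one.mp e4)
    subst hyy
    have hx' : φ x ≠ 1 := by
      intro h
      exact hx (φ.injective (h.trans (map_one φ).symm))
    exact hrel (φ x) (φ y) hx' ha hb)
  exact ⟨Φ⟩

/-- Version with `t x t ∈ B t y`, `y = (a / b, 1 / b)`. -/
theorem nonempty_mulEquiv_PSU_f [Finite F] {q : ℕ} (hq : 1 < q) (h2 : (2 : F) ≠ 0)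
    (hs : ∀ x, σ x = x ^ q) (hF : Nat.card F = q ^ 2)
    (D : Data B U t) (ht : t * t = 1)
    (hcore : ∀ g : G, (∀ k : G, k⁻¹ * g * k ∈ B) → g = 1)
    (hgen : Subgroup.closure ((U : Set G) ∪ {t}) = ⊤)
    (φ : U ≃* HG σ)
    (hf : ∀ x : U, x ≠ 1 → ∃ h ∈ B, ∃ y : U, t * x * t = h * t * y ∧
      (φ y).a = (φ x).a / (φ x).b ∧ (φ y).b = ((φ x).b)⁻¹) :
    Nonempty (G ≃* Cfsg.PSU 3 F q) := by
  have htinv : t⁻¹ = t := inv_eq_of_mul_eq_one_right ht
  refine nonempty_mulEquiv_PSU hq h2 hs hF D ht hcore hgen φ ?_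
  intro x hx
  obtain ⟨h, hh, y, he, ha, hb⟩ := hf x⁻¹ (by simpa using hx)
  refine ⟨y⁻¹, h⁻¹, B.inv_mem hh, ?_, ?_, ?_⟩
  · have h1 := congrArg (fun g : G => g⁻¹) he
    simp only [_root_.mul_inv_rev, htinv, Subgroup.coe_inv, inv_inv, ← mul_assoc] at h1
    rw [Subgroup.coe_inv]
    exact h1
  · rw [map_inv, inv_a, ha, map_inv, inv_a, inv_b]
    ring
  · rw [map_inv, inv_b, hb, map_inv, inv_b, map_inv₀, sig]

end Cfsg.Agent.UThreeGen.Recog
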